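import Groth.Prelude.Def_LinTop
import Groth.Prelude.Def_W4stk3formalspacesTaut
import Mathlib.Topology.Algebra.OpenSubgroup
import Mathlib.RingTheory.Ideal.Quotient.Operations

/-!
Basic lemmas on linearly topologized rings, ideals of definition and taut maps.
-/

namespace Groth.Agent.LinTopH7

open Topology Filter

universe u v

variable {A : Type u} [CommRing A] [TopologicalSpace A]
variable {B : Type v} [CommRing B] [TopologicalSpace B]

theorem isOpen_of_le [IsTopologicalRing A] {I J : Ideal A} (h : I ≤ J) (hI : IsOpen (I : Set A)) :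
    IsOpen (J : Set A) :=
  Ideal.isOpen_of_isOpen_subideal h hI

theorem isClosed_of_open [IsTopologicalRing A] {I : Ideal A} (hI : IsOpen (I : Set A)) :
    IsClosed (I : Set A) :=
  I.toAddSubgroup.isClosed_of_isOpen hI

theorem le_closure [IsTopologicalRing A] (I : Ideal A) : I ≤ I.closure :=
  fun _ hx => subset_closure hx

theorem closure_mono' [IsTopologicalRing A] {I J : Ideal A} (h : I ≤ J) :
    I.closure ≤ J.closure :=
  fun _ hx => closure_mono (s := (I : Set A)) h hx

theorem closure_le_of_open [IsTopologicalRing A] {I J : Ideal A} (h : I ≤ J)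
    (hJ : IsOpen (J : Set A)) : I.closure ≤ J :=
  fun _ hx => closure_minimal (s := (I : Set A)) h (isClosed_of_open hJ) hx

theorem closure_closure' [IsTopologicalRing A] {I J : Ideal A} (h : I ≤ J.closure) :
    I.closure ≤ J.closure :=
  fun _ hx => closure_minimal (s := (I : Set A)) h isClosed_closure hx

theorem closure_le_sup_open [IsTopologicalRing A] (I : Ideal A) {U : Ideal A}
    (hU : IsOpen (U : Set A)) : I.closure ≤ I ⊔ U :=
  closure_le_of_open le_sup_left (isOpen_of_le le_sup_right hU)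

theorem exists_open_ideal [IsTopologicalRing A] [IsLinearTopology A A] {U : Set A}
    (hU : U ∈ 𝓝 (0 : A)) : ∃ I : Ideal A, IsOpen (I : Set A) ∧ (I : Set A) ⊆ U := by
  obtain ⟨I, hI, hIU⟩ := (IsLinearTopology.hasBasis_open_ideal (R := A)).mem_iff.1 hU
  exact ⟨I, hI, hIU⟩

theorem nhds_of_open {I : Ideal A} (hI : IsOpen (I : Set A)) : (I : Set A) ∈ 𝓝 (0 : A) :=
  hI.mem_nhds I.zero_mem

theorem le_closure_iff [IsTopologicalRing A] [IsLinearTopology A A] {I J : Ideal A} :
    J ≤ I.closure ↔ ∀ U : Ideal A, IsOpen (U : Set A) → J ≤ I ⊔ U := by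
  refine ⟨fun h U hU => h.trans (closure_le_sup_open I hU), fun h x hx => ?_⟩
  show x ∈ closure (I : Set A)
  rw [mem_closure_iff_nhds]
  intro t ht
  have ht' : (fun y => x + y) ⁻¹' t ∈ 𝓝 (0 : A) :=
    (continuous_const.add continuous_id).continuousAt (x := (0 : A)) |>.preimage_mem_nhds
      (by simpa using ht)
  obtain ⟨U, hU, hUt⟩ := exists_open_ideal ht'
  obtain ⟨a, ha, b, hb, rfl⟩ := Submodule.mem_sup.1 (h U hU hx)
  refine ⟨a, ?_, ha⟩
  have := hUt (U.neg_mem hb)
  simpa using this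

theorem closure_mul_le [IsTopologicalRing A] (I J : Ideal A) :
    I.closure * J.closure ≤ (I * J).closure :=
  Ideal.mul_le.2 fun _ ha _ hb =>
    map_mem_closure₂ (f := (· * ·)) (s := (I : Set A)) (t := (J : Set A))
      continuous_mul ha hb (fun _ hx _ hy => Ideal.mul_mem_mul hx hy)

theorem closure_pow_le [IsTopologicalRing A] (I : Ideal A) (n : ℕ) :
    I.closure ^ n ≤ (I ^ n).closure := by
  induction n with
  | zero => simp only [pow_zero]; exact le_closure _
  | succ n ih =>
    rw [pow_succ, pow_succ]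
    exact (Ideal.mul_mono ih le_rfl).trans (closure_mul_le _ _)

theorem map_le_closure_map [IsTopologicalRing A] [IsTopologicalRing B] {φ : A →+* B}
    (hφ : Continuous φ) (I : Ideal A) : I.closure.map φ ≤ (I.map φ).closure :=
  Ideal.map_le_iff_le_comap.2 fun _ ha =>
    map_mem_closure (t := ((I.map φ : Ideal B) : Set B)) hφ ha
      (fun _ hx => Ideal.mem_map_of_mem φ hx)

theorem comap_open {φ : A →+* B} (hφ : Continuous φ) {J : Ideal B} (hJ : IsOpen (J : Set B)) :
    IsOpen ((J.comap φ : Ideal A) : Set A) :=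
  hJ.preimage hφ

theorem taut_of_open [IsTopologicalRing B] [IsLinearTopology B B] {φ : A →+* B}
    (hφ : Continuous φ)
    (h : ∀ I : Ideal A, IsOpen (I : Set A) → IsOpen (closure ((I.map φ : Ideal B) : Set B))) :
    LinTop.IsTaut φ := by
  refine ⟨hφ, h, fun U hU => ?_⟩
  obtain ⟨J, hJ, hJU⟩ := exists_open_ideal hU
  exact ⟨J.comap φ, comap_open hφ hJ,
    (closure_minimal (s := (((J.comap φ).map φ : Ideal B) : Set B)) Ideal.map_comap_le
      (isClosed_of_open hJ)).trans hJU⟩

/-- A continuous map sends closure of image of an open ideal where it should. -/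
theorem taut_closure_open [IsTopologicalRing B] {φ : A →+* B} (h : LinTop.IsTaut φ)
    {I : Ideal A} (hI : IsOpen (I : Set A)) : IsOpen (((I.map φ).closure : Ideal B) : Set B) :=
  h.2.1 I hI

section IoD

variable {I : Ideal A}

theorem pow_le_of_open (hI : LinTop.IsIdealOfDefinition A I) {U : Ideal A}
    (hU : IsOpen (U : Set A)) : ∃ n : ℕ, 0 < n ∧ I ^ n ≤ U := by
  obtain ⟨n, hn, h⟩ := hI.2 _ (nhds_of_open hU)
  exact ⟨n, hn, h⟩

theorem isIdealOfDefinition_of_pow_le (hI : LinTop.IsIdealOfDefinition A I) {J : Ideal A}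
    (hJ : IsOpen (J : Set A)) {k : ℕ} (hk : J ^ k ≤ I) : LinTop.IsIdealOfDefinition A J := by
  refine ⟨hJ, fun U hU => ?_⟩
  obtain ⟨n, hn, h⟩ := hI.2 U hU
  refine ⟨(k + 1) * n, by positivity, subset_trans ?_ h⟩
  show J ^ ((k + 1) * n) ≤ I ^ n
  rw [pow_mul]
  exact Ideal.pow_right_mono ((Ideal.pow_le_pow_right (Nat.le_succ k)).trans hk) n

theorem topNil_of_mem (hI : LinTop.IsIdealOfDefinition A I) {x : A} (hx : x ∈ I) :
    IsTopologicallyNilpotent x := by
  intro U hU
  obtain ⟨n, -, h⟩ := hI.2 U hU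
  refine Filter.mem_map.2 (Filter.mem_atTop_sets.2 ⟨n, fun m hm => h ?_⟩)
  exact Ideal.pow_le_pow_right hm (Ideal.pow_mem_pow hx m)

theorem isWeakIdealOfDefinition (hI : LinTop.IsIdealOfDefinition A I) :
    LinTop.IsWeakIdealOfDefinition A I :=
  ⟨hI.1, fun _ hx => topNil_of_mem hI hx⟩

theorem topNil_iff_isNilpotent (hI : LinTop.IsIdealOfDefinition A I) (x : A) :
    IsTopologicallyNilpotent x ↔ IsNilpotent (Ideal.Quotient.mk I x) := by
  refine ⟨fun h => ?_, fun ⟨k, hk⟩ => ?_⟩
  · obtain ⟨n, hn⟩ := h.exists_pow_mem_of_mem_nhds (nhds_of_open hI.1)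
    exact ⟨n, by rw [← map_pow]; exact Ideal.Quotient.eq_zero_iff_mem.2 hn⟩
  · rw [← map_pow, Ideal.Quotient.eq_zero_iff_mem] at hk
    intro U hU
    obtain ⟨n, -, h⟩ := hI.2 U hU
    refine Filter.mem_map.2 (Filter.mem_atTop_sets.2 ⟨k * n, fun m hm => h ?_⟩)
    obtain ⟨d, rfl⟩ := Nat.exists_eq_add_of_le hm
    show x ^ (k * n + d) ∈ I ^ n
    rw [pow_add, pow_mul]
    exact Ideal.mul_mem_right _ _ (Ideal.pow_mem_pow hk n)

omit [TopologicalSpace A] in
theorem sup_pow_le {I I' : Ideal A} {n : ℕ} (h : I' ^ n ≤ I) : (I ⊔ I') ^ n ≤ I := by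
  intro x hx
  have := Ideal.mem_map_of_mem (Ideal.Quotient.mk I) hx
  rw [Ideal.map_pow, Ideal.map_sup, Ideal.map_quotient_self, bot_sup_eq, ← Ideal.map_pow,
    (Ideal.map_eq_bot_iff_le_ker _).2 (h.trans Ideal.mk_ker.ge)] at this
  exact Ideal.Quotient.eq_zero_iff_mem.1 this

theorem exists_iod_mem [IsTopologicalRing A] (hI : LinTop.IsIdealOfDefinition A I) {x : A}
    (hx : IsTopologicallyNilpotent x) :
    ∃ J : Ideal A, LinTop.IsIdealOfDefinition A J ∧ x ∈ J := by
  obtain ⟨n, hn⟩ := hx.exists_pow_mem_of_mem_nhds (nhds_of_open hI.1)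
  refine ⟨I ⊔ Ideal.span {x}, isIdealOfDefinition_of_pow_le hI (isOpen_of_le le_sup_left hI.1)
    (k := n) (sup_pow_le ?_), Ideal.mem_sup_right (Ideal.mem_span_singleton_self x)⟩
  rw [Ideal.span_singleton_pow, Ideal.span_singleton_le_iff_mem]
  exact hn

theorem isAdic_of_isPreadic [IsTopologicalRing A] (hA : LinTop.IsPreadic A)
    (hI : LinTop.IsIdealOfDefinition A I) : IsAdic I := by
  obtain ⟨J, hJ⟩ := hA
  have hJ' := isAdic_iff.1 hJ
  refine isAdic_iff.2 ⟨fun n => ?_, fun s hs => ?_⟩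
  · obtain ⟨m, hm⟩ := hJ'.2 _ (nhds_of_open hI.1)
    refine isOpen_of_le (I := J ^ (m * n)) ?_ (hJ'.1 _)
    rw [pow_mul]
    exact Ideal.pow_right_mono hm n
  · obtain ⟨n, -, h⟩ := hI.2 s hs
    exact ⟨n, h⟩

theorem isIdealOfDefinition_of_isAdic [IsTopologicalRing A] (hI : IsAdic I) :
    LinTop.IsIdealOfDefinition A I := by
  obtain ⟨h1, h2⟩ := isAdic_iff.1 hI
  refine ⟨by simpa using h1 1, fun U hU => ?_⟩
  obtain ⟨n, hn⟩ := h2 U hU
  exact ⟨n + 1, by positivity, subset_trans (Ideal.pow_le_pow_right (Nat.le_succ n)) hn⟩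

theorem isLinearTopology_of_isAdic {I : Ideal A} (hI : IsAdic I) : IsLinearTopology A A :=
  IsLinearTopology.mk_of_hasBasis A hI.hasBasis_nhds_zero

end IoD

theorem isPreadmissible_of_taut [IsTopologicalRing B] [IsLinearTopology B B] {φ : A →+* B}
    (hφ : LinTop.IsTaut φ) {I : Ideal A} (hI : LinTop.IsIdealOfDefinition A I) :
    LinTop.IsIdealOfDefinition B (I.map φ).closure := by
  refine ⟨hφ.2.1 I hI.1, fun U hU => ?_⟩
  obtain ⟨V, hV, hVU⟩ := exists_open_ideal hU
  obtain ⟨n, hn, hn'⟩ := pow_le_of_open hI (comap_open hφ.1 hV)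
  refine ⟨n, hn, subset_trans ?_ hVU⟩
  show (I.map φ).closure ^ n ≤ V
  refine (closure_pow_le _ n).trans (closure_le_of_open ?_ hV)
  rw [← Ideal.map_pow]
  exact Ideal.map_le_iff_le_comap.2 hn'

theorem topNil_closed [IsTopologicalRing B] [IsLinearTopology B B] :
    IsClosed ((topologicalNilradical B : Ideal B) : Set B) := by
  refine isClosed_of_closure_subset fun x hx => ?_
  have hx' : x ∈ (topologicalNilradical B).closure := hx
  show IsTopologicallyNilpotent x
  intro U hU
  obtain ⟨V, hV, hVU⟩ := exists_open_ideal hU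
  obtain ⟨y, hy, z, hz, rfl⟩ := Submodule.mem_sup.1 (closure_le_sup_open _ hV hx')
  have hy' : IsTopologicallyNilpotent y := hy
  refine Filter.mem_map.2 ?_
  filter_upwards [hy'.eventually_mem (nhds_of_open hV)] with m hm
  refine hVU ?_
  have hsub : (y + z) ^ m - y ^ m ∈ V := by
    rw [← Ideal.Quotient.eq_zero_iff_mem, map_sub, map_pow, map_add,
      (Ideal.Quotient.eq_zero_iff_mem.2 hz), add_zero, map_pow, sub_self]
  simpa using V.add_mem hsub hm

theorem closure_topNil [IsTopologicalRing B] [IsLinearTopology B B] {J : Ideal B}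
    (h : ∀ g ∈ J, IsTopologicallyNilpotent g) : ∀ g ∈ J.closure, IsTopologicallyNilpotent g :=
  fun _ hg => closure_minimal (s := (J : Set B)) (t := (topologicalNilradical B : Set B))
    h topNil_closed hg

theorem map_topNil [IsTopologicalRing B] [IsLinearTopology B B] {φ : A →+* B} (hφ : Continuous φ)
    {I : Ideal A} (hI : ∀ f ∈ I, IsTopologicallyNilpotent f) :
    ∀ g ∈ (I.map φ).closure, IsTopologicallyNilpotent g := by
  refine closure_topNil ?_
  have h : I.map φ ≤ topologicalNilradical B :=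
    Ideal.map_le_iff_le_comap.2 fun x hx => (hI x hx).map hφ
  exact fun g hg => h hg

/-- In a weakly preadic ring, `closure I` is an ideal of definition. -/
theorem iod_of_weaklyPreadic [IsTopologicalRing A] [IsLinearTopology A A] {I : Ideal A}
    (ho : ∀ n : ℕ, IsOpen (closure ((I ^ n : Ideal A) : Set A)))
    (hb : ∀ U ∈ 𝓝 (0 : A), ∃ n : ℕ, closure ((I ^ n : Ideal A) : Set A) ⊆ U) :
    LinTop.IsIdealOfDefinition A I.closure := by
  refine ⟨by simpa using ho 1, fun U hU => ?_⟩
  obtain ⟨n, hn⟩ := hb U hU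
  refine ⟨n + 1, by positivity, subset_trans ?_ hn⟩
  show I.closure ^ (n + 1) ≤ (I ^ n).closure
  exact (closure_pow_le _ _).trans (closure_mono' (Ideal.pow_le_pow_right (Nat.le_succ n)))

/-- For any two ideals of definition, openness of closures of powers transfers. -/
theorem closure_pow_open_transfer [IsTopologicalRing A] {I I' : Ideal A}
    (hI : LinTop.IsIdealOfDefinition A I) (hI' : IsOpen (I' : Set A))
    (h : ∀ n : ℕ, 0 < n → IsOpen (closure ((I ^ n : Ideal A) : Set A))) (n : ℕ) :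
    IsOpen (closure ((I' ^ n : Ideal A) : Set A)) := by
  rcases Nat.eq_zero_or_pos n with rfl | hn
  · simp
  obtain ⟨m, hm, hm'⟩ := pow_le_of_open hI hI'
  refine isOpen_of_le (J := (I' ^ n).closure) (closure_mono' (I := I ^ (m * n)) ?_)
    (h _ (by positivity))
  rw [pow_mul]
  exact Ideal.pow_right_mono hm' n

/-- If `I` is an ideal of definition with open closures of powers, the ring is weakly preadic. -/
theorem weaklyPreadic_of_iod [IsTopologicalRing A] [IsLinearTopology A A] {I : Ideal A}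
    (hI : LinTop.IsIdealOfDefinition A I)
    (h : ∀ n : ℕ, 0 < n → IsOpen (closure ((I ^ n : Ideal A) : Set A))) :
    LinTop.IsWeaklyPreadic A := by
  refine ⟨inferInstance, I, closure_pow_open_transfer hI hI.1 h, fun U hU => ?_⟩
  obtain ⟨V, hV, hVU⟩ := exists_open_ideal hU
  obtain ⟨n, -, hn⟩ := pow_le_of_open hI hV
  exact ⟨n, subset_trans (closure_le_of_open hn hV) hVU⟩

/-- In a weakly preadic ring every ideal of definition has open closures of powers. -/
theorem closure_pow_open [IsTopologicalRing A] [IsLinearTopology A A] (hA : LinTop.IsWeaklyPreadic A)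
    {J : Ideal A} (hJ : LinTop.IsIdealOfDefinition A J) (n : ℕ) :
    IsOpen (closure ((J ^ n : Ideal A) : Set A)) := by
  obtain ⟨-, I, ho, hb⟩ := hA
  refine closure_pow_open_transfer (iod_of_weaklyPreadic ho hb) hJ.1 (fun m _ => ?_) n
  refine isOpen_of_le (I := (I ^ m).closure) (J := (I.closure ^ m).closure) ?_ (ho m)
  exact closure_mono' (Ideal.pow_right_mono (le_closure I) m)

theorem weaklyPreadic_of_taut [IsTopologicalRing A] [IsTopologicalRing B] [IsLinearTopology B B]
    {φ : A →+* B} (hφ : LinTop.IsTaut φ) (hA : LinTop.IsWeaklyPreadic A) :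
    LinTop.IsWeaklyPreadic B := by
  obtain ⟨-, I, ho, hb⟩ := hA
  refine ⟨inferInstance, I.map φ, fun n => ?_, fun U hU => ?_⟩
  · refine isOpen_of_le (J := ((I.map φ) ^ n).closure) (I := ((I ^ n).closure.map φ).closure) ?_
      (hφ.2.1 _ (ho n))
    rw [← Ideal.map_pow]
    exact closure_closure' (map_le_closure_map hφ.1 _)
  · obtain ⟨V, hV, hVU⟩ := exists_open_ideal hU
    obtain ⟨n, hn⟩ := hb _ (nhds_of_open (comap_open hφ.1 hV))
    refine ⟨n, subset_trans (closure_le_of_open ?_ hV) hVU⟩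
    rw [← Ideal.map_pow]
    exact Ideal.map_le_iff_le_comap.2 fun x hx => hn (subset_closure hx)

section FFlat

variable [IsTopologicalRing B]

theorem comap_closure_map_eq {φ : A →+* B} (hφ : LinTop.IsTautFFlat φ) {I : Ideal A}
    (hI : IsOpen (I : Set A)) : (I.map φ).closure.comap φ = I := by
  refine le_antisymm (fun x hx => ?_) (Ideal.map_le_iff_le_comap.1 (le_closure _))
  rw [← Ideal.Quotient.eq_zero_iff_mem]
  refine (hφ.2 I hI).injective ?_
  rw [map_zero]
  show Ideal.quotientMap _ _ _ _ = _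
  rw [Ideal.quotientMap_mk]
  exact Ideal.Quotient.eq_zero_iff_mem.2 hx

theorem topNil_of_map [IsTopologicalRing A] [IsLinearTopology A A] {φ : A →+* B}
    (hφ : LinTop.IsTautFFlat φ) {x : A} (hx : IsTopologicallyNilpotent (φ x)) :
    IsTopologicallyNilpotent x := by
  intro U hU
  obtain ⟨I, hI, hIU⟩ := exists_open_ideal hU
  refine Filter.mem_map.2 ?_
  filter_upwards [hx.eventually_mem (nhds_of_open (taut_closure_open hφ.1 hI))] with m hm
  refine hIU ?_
  rw [SetLike.mem_coe, ← comap_closure_map_eq hφ hI, Ideal.mem_comap, map_pow]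
  exact hm

theorem iod_comap [IsTopologicalRing A] [IsLinearTopology A A] {φ : A →+* B}
    (hφ : LinTop.IsTautFFlat φ) {K : Ideal B} (hK : LinTop.IsIdealOfDefinition B K) :
    LinTop.IsIdealOfDefinition A (K.comap φ) := by
  refine ⟨comap_open hφ.1.1 hK.1, fun U hU => ?_⟩
  obtain ⟨I, hI, hIU⟩ := exists_open_ideal hU
  obtain ⟨n, hn, hn'⟩ := pow_le_of_open hK (taut_closure_open hφ.1 hI)
  refine ⟨n, hn, subset_trans ?_ hIU⟩
  show (K.comap φ) ^ n ≤ I
  calc (K.comap φ) ^ n ≤ (K ^ n).comap φ := Ideal.le_comap_pow _ _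
    _ ≤ ((I.map φ).closure).comap φ := Ideal.comap_mono hn'
    _ = I := comap_closure_map_eq hφ hI

/-- The closure of `J` contains an open ideal as soon as it does so after taut flat extension. -/
theorem open_closure_of_map [IsTopologicalRing A] [IsLinearTopology A A] {φ : A →+* B}
    (hφ : LinTop.IsTautFFlat φ) {J : Ideal A}
    (h : IsOpen (((J.map φ).closure : Ideal B) : Set B)) : IsOpen (closure (J : Set A)) := by
  refine isOpen_of_le (J := J.closure) (I := ((J.map φ).closure).comap φ) ?_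
    (comap_open hφ.1.1 h)
  rw [le_closure_iff]
  intro U hU
  calc ((J.map φ).closure).comap φ ≤ (((J ⊔ U).map φ).closure).comap φ :=
        Ideal.comap_mono (closure_mono' (Ideal.map_mono le_sup_left))
    _ = J ⊔ U := comap_closure_map_eq hφ (isOpen_of_le le_sup_right hU)

end FFlat

end Groth.Agent.LinTopH7
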