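import Groth.Agent.Lib.LinTop.Basic
import Mathlib.Topology.Algebra.IsUniformGroup.Basic
import Mathlib.Topology.Algebra.InfiniteSum.Ring
import Mathlib.Topology.Algebra.UniformRing
import Mathlib.RingTheory.Jacobson.Ideal
import Mathlib.RingTheory.Ideal.Operations
import Mathlib.RingTheory.AdicCompletion.Basic

/-!
Convergence in complete Hausdorff linearly topologized rings.
-/

namespace Groth.Agent.LinTopH7

open Topology Filter

universe u v

variable {A : Type u} [CommRing A]

section Top

variable [TopologicalSpace A] [IsTopologicalRing A]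
variable {B : Type v} [CommRing B] [TopologicalSpace B] [IsTopologicalRing B]

omit [TopologicalSpace A] [IsTopologicalRing A] in
/-- For a homomorphism with dense range, the closure of the image of an ideal is an ideal. -/
theorem closure_map_eq_closure_image {φ : A →+* B} (hd : DenseRange φ) (I : Ideal A) :
    closure ((I.map φ : Ideal B) : Set B) = closure (φ '' (I : Set A)) := by
  refine le_antisymm ?_ (closure_mono fun _ ⟨x, hx, h⟩ => h ▸ Ideal.mem_map_of_mem φ hx)
  refine closure_minimal ?_ isClosed_closure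
  let S : Ideal B :=
    { (I.toAddSubgroup.map φ.toAddMonoidHom).topologicalClosure with
      carrier := closure (φ '' (I : Set A))
      smul_mem' := fun b x hx => map_mem_closure₂ (f := (· * ·)) continuous_mul (hd b) hx
        (by rintro _ ⟨a, rfl⟩ _ ⟨i, hi, rfl⟩; exact ⟨a * i, I.mul_mem_left a hi, map_mul φ a i⟩) }
  exact Ideal.map_le_of_le_comap (K := S) fun x hx => subset_closure ⟨x, hx, rfl⟩

/-- `x - y` small means `x` and `y` are close. -/
theorem tendsto_of_eventually_sub_mem [IsLinearTopology A A] {α : Type*} {l : Filter α}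
    {x : α → A} {a : A} (h : ∀ U : Ideal A, IsOpen (U : Set A) → ∀ᶠ k in l, x k - a ∈ U) :
    Tendsto x l (𝓝 a) := by
  rw [tendsto_sub_nhds_zero_iff.symm, IsLinearTopology.hasBasis_open_ideal.tendsto_right_iff]
  exact fun U hU => h U hU

theorem eq_zero_of_forall_mem [IsLinearTopology A A] [T2Space A] {x : A}
    (h : ∀ U : Ideal A, IsOpen (U : Set A) → x ∈ U) : x = 0 :=
  (tendsto_nhds_unique (f := fun _ : ℕ => x) (l := atTop)
    (tendsto_of_eventually_sub_mem fun U hU => Eventually.of_forall fun _ => by simpa using h U hU)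
    tendsto_const_nhds).symm

end Top

section Unif

variable [UniformSpace A] [IsUniformAddGroup A] [IsTopologicalRing A] [IsLinearTopology A A]

theorem exists_tendsto [CompleteSpace A] {x : ℕ → A}
    (h : ∀ U : Ideal A, IsOpen (U : Set A) → ∀ᶠ k in atTop, x (k + 1) - x k ∈ U) :
    ∃ a, Tendsto x atTop (𝓝 a) := by
  refine cauchySeq_tendsto_of_complete ?_
  have hb : (uniformity A).HasBasis (fun U : Ideal A => IsOpen (U : Set A))
      (fun U => {p : A × A | p.2 - p.1 ∈ U}) := by
    rw [uniformity_eq_comap_nhds_zero A]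
    exact IsLinearTopology.hasBasis_open_ideal.comap _
  rw [hb.cauchySeq_iff']
  intro U hU
  obtain ⟨N, hN⟩ := eventually_atTop.1 (h U hU)
  refine ⟨N, fun n hn => ?_⟩
  show x N - x n ∈ U
  induction n, hn using Nat.le_induction with
  | base => simp
  | succ n hn ih =>
    have := U.sub_mem ih (hN n hn)
    rwa [show x N - x n - (x (n + 1) - x n) = x N - x (n + 1) by ring] at this

variable [T2Space A]

theorem isUnit_one_add [CompleteSpace A] {x : A} (hx : IsTopologicallyNilpotent x) :
    IsUnit (1 + x) := by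
  have hy : ∀ U : Ideal A, IsOpen (U : Set A) → ∀ᶠ k in atTop, (-x) ^ k ∈ U := fun U hU => by
    filter_upwards [hx.eventually_mem (nhds_of_open hU)] with k hk
    rw [neg_pow]
    exact U.mul_mem_left _ hk
  obtain ⟨s, hs⟩ := exists_tendsto (x := fun N => ∑ i ∈ Finset.range N, (-x) ^ i) fun U hU => by
    filter_upwards [hy U hU] with k hk
    simpa [Finset.sum_range_succ] using hk
  refine IsUnit.of_mul_eq_one s ?_
  refine tendsto_nhds_unique (hs.const_mul (1 + x)) (tendsto_of_eventually_sub_mem fun U hU => ?_)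
  filter_upwards [hy U hU] with k hk
  rw [show (1 + x) = 1 - -x by ring, mul_neg_geom_sum]
  simpa using hk

theorem le_jacobson [CompleteSpace A] {I : Ideal A} (hI : ∀ f ∈ I, IsTopologicallyNilpotent f) :
    I ≤ (⊥ : Ideal A).jacobson := fun x hx =>
  Ideal.mem_jacobson_bot.2 fun y => by
    rw [add_comm]
    exact isUnit_one_add (hI _ (I.mul_mem_right y hx))

/-- A series with `k`-th term in `I ^ (n + k)` converges into `I ^ n`, for `I` finitely generated
and with powers tending to zero. -/
theorem exists_tendsto_mem_pow [CompleteSpace A] {I : Ideal A} (hfg : I.FG)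
    (hI : ∀ U : Ideal A, IsOpen (U : Set A) → ∃ k, I ^ k ≤ U) (n : ℕ) {x : ℕ → A}
    (hx : ∀ k, x (k + 1) - x k ∈ I ^ (n + k)) :
    ∃ z, Tendsto x atTop (𝓝 z) ∧ z - x 0 ∈ I ^ n := by
  obtain ⟨s, hs⟩ := hfg.pow (n := n)
  have hdec : ∀ k, ∃ c : s → A, (∀ i, c i ∈ I ^ k) ∧ ∑ i, c i * (i : A) = x (k + 1) - x k := by
    intro k
    have h := hx k
    rw [add_comm, pow_add, ← hs] at h
    have hr : (s : Set A) = Set.range (fun i : s => (i : A)) := by simp
    rw [← smul_eq_mul, hr, Submodule.mem_ideal_smul_span_iff_exists_sum] at h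
    obtain ⟨a, ha, hsum⟩ := h
    refine ⟨a, ha, ?_⟩
    rw [← hsum, Finsupp.sum_fintype]
    · simp [smul_eq_mul]
    · simp
  choose c hc hcs using hdec
  have hC : ∀ i, ∃ C, Tendsto (fun N => ∑ k ∈ Finset.range N, c k i) atTop (𝓝 C) := fun i => by
    refine exists_tendsto fun U hU => ?_
    obtain ⟨k₀, hk₀⟩ := hI U hU
    refine eventually_atTop.2 ⟨k₀, fun k hk => ?_⟩
    simpa [Finset.sum_range_succ] using hk₀ (Ideal.pow_le_pow_right hk (hc k i))
  choose C hC using hC
  refine ⟨x 0 + ∑ i, C i * (i : A), ?_, ?_⟩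
  · have hx' : x = fun N => x 0 + ∑ i, (∑ k ∈ Finset.range N, c k i) * (i : A) := by
      funext N
      induction N with
      | zero => simp
      | succ N ih =>
        have := hcs N
        simp only [Finset.sum_range_succ, add_mul, Finset.sum_add_distrib]
        rw [this, ← add_assoc, ← ih]
        ring
    rw [hx']
    simp only [Finset.range_zero, Finset.sum_empty, zero_mul, Finset.sum_const_zero, add_zero]
    exact tendsto_const_nhds.add (tendsto_finsetSum _ fun i _ => (hC i).mul_const _)
  · rw [add_sub_cancel_left, ← hs]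
    exact Submodule.sum_mem _ fun i _ => Ideal.mul_mem_left _ _ (Ideal.subset_span i.2)

theorem isAdicComplete_of_fg [CompleteSpace A] {I : Ideal A} (hfg : I.FG)
    (hI : ∀ U : Ideal A, IsOpen (U : Set A) → ∃ k, I ^ k ≤ U) : IsAdicComplete I A := by
  refine { haus' := fun x hx => ?_, prec' := fun f hf => ?_ }
  · refine eq_zero_of_forall_mem fun U hU => ?_
    obtain ⟨k, hk⟩ := hI U hU
    exact hk (by simpa [SModEq.zero] using hx k)
  · have hd : ∀ k, f (k + 1) - f k ∈ I ^ k := fun k => by
      have := (hf (Nat.le_succ k)).symm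
      simpa [SModEq.sub_mem] using this
    obtain ⟨L, hL, -⟩ := exists_tendsto_mem_pow hfg hI 0 (x := f) (by simpa using hd)
    refine ⟨L, fun n => ?_⟩
    obtain ⟨z, hz, hz'⟩ := exists_tendsto_mem_pow hfg hI n (x := fun k => f (n + k))
      fun k => hd (n + k)
    have : z = L := tendsto_nhds_unique hz (hL.comp (tendsto_atTop_mono (fun k => Nat.le_add_left k n) tendsto_id))
    subst this
    rw [SModEq.comm, SModEq.sub_mem]
    simpa using hz'

/-- Powers of a finitely generated ideal with open closures forming a basis are closed. -/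
theorem isAdic_of_fg [CompleteSpace A] {I : Ideal A} (hfg : I.FG)
    (ho : ∀ n : ℕ, IsOpen (closure ((I ^ n : Ideal A) : Set A)))
    (hb : ∀ U ∈ 𝓝 (0 : A), ∃ n : ℕ, closure ((I ^ n : Ideal A) : Set A) ⊆ U) : IsAdic I := by
  have hI : ∀ U : Ideal A, IsOpen (U : Set A) → ∃ k, I ^ k ≤ U := fun U hU => by
    obtain ⟨k, hk⟩ := hb _ (nhds_of_open hU)
    exact ⟨k, fun x hx => hk (subset_closure hx)⟩
  have heq : ∀ n, (I ^ n).closure ≤ I ^ n := by
    intro n x hx
    have hstep : ∀ m, ∀ a ∈ (I ^ m).closure, ∃ b ∈ (I ^ (m + 1)).closure, a - b ∈ I ^ m := by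
      intro m a ha
      obtain ⟨y, hy, b, hb', rfl⟩ := Submodule.mem_sup.1 (closure_le_sup_open _ (ho (m + 1))
        (U := (I ^ (m + 1)).closure) ha)
      exact ⟨b, hb', by simpa using hy⟩
    choose g hg hg' using hstep
    let r : (k : ℕ) → {a // a ∈ (I ^ (n + k)).closure} := fun k =>
      Nat.rec ⟨x, by simpa using hx⟩ (fun j a => ⟨g (n + j) a.1 a.2, hg (n + j) a.1 a.2⟩) k
    obtain ⟨z, hz, hz'⟩ := exists_tendsto_mem_pow hfg hI n (x := fun k => x - (r k).1) fun k => by
      rw [show x - (r (k + 1)).1 - (x - (r k).1) = (r k).1 - (r (k + 1)).1 by ring]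
      exact hg' (n + k) (r k).1 (r k).2
    have hzx : z = x := by
      refine tendsto_nhds_unique hz (tendsto_of_eventually_sub_mem fun U hU => ?_)
      obtain ⟨k₀, hk₀⟩ := hI U hU
      refine eventually_atTop.2 ⟨k₀, fun k hk => ?_⟩
      rw [sub_sub_cancel_left, U.neg_mem_iff]
      exact closure_le_of_open ((Ideal.pow_le_pow_right (by omega)).trans hk₀) hU (r k).2
    subst hzx
    simpa [r] using hz'
  refine isAdic_iff.2 ⟨fun n => ?_, fun s hs => ?_⟩
  · exact isOpen_of_le (heq n) (ho n)
  · obtain ⟨n, hn⟩ := hb s hs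
    exact ⟨n, subset_closure.trans hn⟩

theorem isAdic_map_of_taut [CompleteSpace A] {R : Type v} [CommRing R] [TopologicalSpace R]
    [IsTopologicalRing R] (hR : LinTop.IsPreadic R) {I : Ideal R}
    (hI : LinTop.IsIdealOfDefinition R I) (hfg : I.FG) {φ : R →+* A} (hφ : LinTop.IsTaut φ) :
    IsAdic (I.map φ) := by
  refine isAdic_of_fg (hfg.map φ) (fun n => ?_) fun U hU => ?_
  · rw [← Ideal.map_pow]
    exact hφ.2.1 _ ((isAdic_iff.1 (isAdic_of_isPreadic hR hI)).1 n)
  · obtain ⟨V, hV, hVU⟩ := exists_open_ideal hU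
    obtain ⟨n, -, hn⟩ := pow_le_of_open hI (comap_open hφ.1 hV)
    refine ⟨n, subset_trans (closure_le_of_open ?_ hV) hVU⟩
    rw [← Ideal.map_pow]
    exact Ideal.map_le_iff_le_comap.2 hn

end Unif

section Completion

variable (A) [UniformSpace A] [IsUniformAddGroup A] [IsTopologicalRing A] [IsLinearTopology A A]

theorem completion_hasBasis :
    (𝓝 (0 : UniformSpace.Completion A)).HasBasis (fun I : Ideal A => IsOpen (I : Set A))
      (fun I => closure ((I.map (UniformSpace.Completion.coeRingHom :
        A →+* UniformSpace.Completion A) : Ideal _) : Set (UniformSpace.Completion A))) := by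
  have h := (IsLinearTopology.hasBasis_open_ideal (R := A)).hasBasis_of_isDenseInducing
    UniformSpace.Completion.isDenseInducing_coe
  rw [UniformSpace.Completion.coe_zero] at h
  refine h.congr (fun _ => Iff.rfl) fun I _ => ?_
  exact (closure_map_eq_closure_image
    (φ := (UniformSpace.Completion.coeRingHom : A →+* UniformSpace.Completion A))
    UniformSpace.Completion.denseRange_coe I).symm

theorem completion_isLinearTopology :
    IsLinearTopology (UniformSpace.Completion A) (UniformSpace.Completion A) :=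
  IsLinearTopology.mk_of_hasBasis _ (s := fun I : Ideal A =>
    (I.map (UniformSpace.Completion.coeRingHom : A →+* UniformSpace.Completion A)).closure)
    (completion_hasBasis A)

theorem completion_taut :
    LinTop.IsTaut (UniformSpace.Completion.coeRingHom : A →+* UniformSpace.Completion A) := by
  refine ⟨UniformSpace.Completion.continuous_coeRingHom, fun I hI => ?_, fun U hU => ?_⟩
  · exact ((I.map (UniformSpace.Completion.coeRingHom : A →+* UniformSpace.Completion A)).closure
      ).toAddSubgroup.isOpen_of_mem_nhds ((completion_hasBasis A).mem_of_mem hI)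
  · obtain ⟨I, hI, hIU⟩ := (completion_hasBasis A).mem_iff.1 hU
    exact ⟨I, hI, hIU⟩

end Completion

end Groth.Agent.LinTopH7
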